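import Cfsg.Agent.Lib.Helper60.SUG.Defs

set_option autoImplicit false

/-!
# SUG (S2412): package [QUOT]
-/

namespace Cfsg.Agent.Lib.Helper40.SUG

open Cfsg Cfsg.Agent.Lib.Helper60.SUG

universe u

/-- [QUOT] two generators of `SU_n` give two generators of `PSU_n`. -/
theorem pkgQuot : PkgQuot.{u} := by
  intro F _ n q h
  obtain ⟨x, y, h⟩ := h
  refine ⟨QuotientGroup.mk' (Subgroup.center ↥(Cfsg.SU n F q)) x,
    QuotientGroup.mk' (Subgroup.center ↥(Cfsg.SU n F q)) y, ?_⟩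
  have h1 := MonoidHom.map_closure (QuotientGroup.mk' (Subgroup.center ↥(Cfsg.SU n F q)))
    ({x, y} : Set ↥(Cfsg.SU n F q))
  rw [h, Subgroup.map_top_of_surjective _ (QuotientGroup.mk'_surjective _)] at h1
  rw [h1, Set.image_pair]

end Cfsg.Agent.Lib.Helper40.SUG
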